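import Mathlib
import Groth.Agent.DefLib.ArtFlat
import Groth.Prelude.Def_ArtFun

/-! # Endomorphisms of deformations of a module with scalar endomorphisms -/

set_option autoImplicit false

universe u v w w'

namespace DefModLib

/-- Coordinates of an element of `I • ⊤` lie in `I`. -/
theorem repr_mem_of_mem_smul_top {R : Type*} [CommRing R] {F : Type*} [AddCommGroup F] [Module R F]
    {ι : Type*} (b : Module.Basis ι R F) (I : Ideal R) {x : F} (hx : x ∈ I • (⊤ : Submodule R F))
    (i : ι) : b.repr x i ∈ I := by
  refine Submodule.smul_induction_on hx (fun a ha y _ => ?_) (fun x y hx hy => ?_)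
  · rw [map_smul, Finsupp.smul_apply, smul_eq_mul]; exact I.mul_mem_right _ ha
  · rw [map_add, Finsupp.add_apply]; exact I.add_mem hx hy

theorem mem_smul_top_of_repr_mem {R : Type*} [CommRing R] {F : Type*} [AddCommGroup F] [Module R F]
    {ι : Type*} (b : Module.Basis ι R F) (I : Ideal R) {x : F} (h : ∀ i, b.repr x i ∈ I) :
    x ∈ I • (⊤ : Submodule R F) := by
  rw [← b.linearCombination_repr x, Finsupp.linearCombination_apply]
  exact Submodule.sum_mem _ fun i _ => Submodule.smul_mem_smul (h i) Submodule.mem_top

variable {K : Type u} [Field K] {D : Type v} [Ring D] [Algebra K D]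
  {E : Type w} [AddCommGroup E] [Module K E] [Module D E] [IsScalarTower K D E]
  (R : ArtFun.Art K K) {F : Type w'} [AddCommGroup F] [Module K F] [Module R F] [Module D F]
  [IsScalarTower K R F] [IsScalarTower K D F] [SMulCommClass R D F]

theorem exists_smul_eq [Nontrivial E] (hE : ∀ ψ : E →ₗ[D] E, ∃ c : K, ∀ y : E, ψ y = c • y)
    [Module.Flat R F]
    (θ : F →ₗ[D] E) (hθ : ∀ (r : R) (x : F), θ (r • x) = R.res r • θ x)
    (hsurj : Function.Surjective θ)
    (hker : ∀ x : F, θ x = 0 ↔ x ∈ IsLocalRing.maximalIdeal R • (⊤ : Submodule R F))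
    (φ : F →ₗ[R] F) (hφ : ∀ (d : D) (x : F), φ (d • x) = d • φ x) :
    ∃! r : R, ∀ x : F, φ x = r • x := by
  classical
  have hnil : IsNilpotent (IsLocalRing.maximalIdeal R) := by
    rw [← IsLocalRing.jacobson_eq_maximalIdeal (⊥ : Ideal R) bot_ne_top]
    exact IsArtinianRing.isNilpotent_jacobson_bot
  haveI : Module.Free R F := DefLib.free_of_flat_of_nilpotent hnil
  obtain ⟨⟨ι, b⟩⟩ := Module.Free.exists_basis (R := R) (M := F)
  have hres : ∀ c : K, R.res (algebraMap K R c) = c := fun c => R.res.commutes c
  have hθK : ∀ (c : K) (x : F), θ (c • x) = c • θ x := fun c x => by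
    rw [← algebraMap_smul R c x, hθ, hres]
  -- the images of the basis are independent
  have hli : LinearIndependent K (fun i => θ (b i)) := by
    rw [linearIndependent_iff]
    intro l hl
    ext i
    have h0 : θ (b.repr.symm (l.mapRange (algebraMap K R) (map_zero _))) = 0 := by
      rw [Module.Basis.repr_symm_apply, Finsupp.linearCombination_apply,
        Finsupp.sum_mapRange_index (by intro i; simp), Finsupp.sum, map_sum]
      rw [Finsupp.linearCombination_apply, Finsupp.sum] at hl
      simpa only [hθ, hres] using hl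
    have := repr_mem_of_mem_smul_top b _ ((hker _).1 h0) i
    rw [LinearEquiv.apply_symm_apply, Finsupp.mapRange_apply, ArtFun.Art.mem_maximalIdeal_iff, hres] at this
    simpa using this
  have hne : Nonempty ι := by
    by_contra h
    rw [not_nonempty_iff] at h
    obtain ⟨y, hy⟩ := exists_ne (0 : E)
    obtain ⟨x, rfl⟩ := hsurj y
    exact hy (by rw [← b.linearCombination_repr x, Subsingleton.elim (b.repr x) 0]; simp)
  obtain ⟨i0⟩ := hne
  have key : ∀ k : ℕ, ∃ r : R, ∀ x : F,
      φ x - r • x ∈ (IsLocalRing.maximalIdeal R) ^ k • (⊤ : Submodule R F) := by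
    intro k
    induction k with
    | zero => exact ⟨0, fun x => by rw [pow_zero, Ideal.one_eq_top, Submodule.top_smul]; exact Submodule.mem_top⟩
    | succ k ih =>
      obtain ⟨r, hr⟩ := ih
      set m := IsLocalRing.maximalIdeal R with hm
      let ψ : F →ₗ[R] F := φ - r • LinearMap.id
      have hψ : ∀ x, ψ x ∈ m ^ k • (⊤ : Submodule R F) := hr
      have hψD : ∀ (d : D) (x : F), ψ (d • x) = d • ψ x := fun d x => by
        simp only [ψ, LinearMap.sub_apply, LinearMap.smul_apply, LinearMap.id_coe, id_eq, hφ, smul_sub,
          smul_comm r d x]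
      refine ⟨r + b.repr (ψ (b i0)) i0, fun x => ?_⟩
      set r' := b.repr (ψ (b i0)) i0 with hr'
      have hr'k : r' ∈ m ^ k := repr_mem_of_mem_smul_top b _ (hψ _) i0
      apply mem_smul_top_of_repr_mem b
      intro i
      -- separate by functionals killing `m ^ (k+1)`
      by_contra hni
      let W : Submodule K R := (m ^ (k + 1)).restrictScalars K
      obtain ⟨ℓ, hℓ1, hℓ2⟩ := Submodule.exists_dual_map_eq_bot_of_notMem
        (p := W) (x := b.repr (φ x - (r + r') • x) i) hni inferInstance
      have hℓ0 : ∀ a ∈ m ^ (k + 1), ℓ a = 0 := fun a ha => by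
        have : ℓ a ∈ W.map ℓ := Submodule.mem_map_of_mem ha
        rwa [hℓ2, Submodule.mem_bot] at this
      have hℓmul : ∀ a ∈ m ^ k, ∀ t : R, ℓ (a * t) = R.res t * ℓ a := fun a ha t => by
        have h1 : t - algebraMap K R (R.res t) ∈ m := by
          rw [hm, ArtFun.Art.mem_maximalIdeal_iff, map_sub, hres, sub_self]
        have h2 : ℓ (a * (t - algebraMap K R (R.res t))) = 0 :=
          hℓ0 _ (by rw [pow_succ]; exact Ideal.mul_mem_mul ha h1)
        rw [mul_sub, map_sub, sub_eq_zero] at h2
        rw [h2, mul_comm a, ← Algebra.smul_def, map_smul, smul_eq_mul]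
      let bK : F →ₗ[K] E :=
        Finsupp.linearCombination K (fun i => θ (b i)) ∘ₗ Finsupp.mapRange.linearMap ℓ ∘ₗ
          (b.repr.toLinearMap.restrictScalars K)
      have hbK : ∀ a ∈ m ^ k, ∀ y : F, bK (a • y) = ℓ a • θ y := fun a ha y => by
        conv_rhs => rw [← b.linearCombination_repr y, Finsupp.linearCombination_apply, Finsupp.sum, map_sum,
          Finset.smul_sum]
        simp only [bK, LinearMap.comp_apply, LinearMap.restrictScalars_apply, LinearEquiv.coe_coe, map_smul,
          Finsupp.mapRange.linearMap_apply]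
        rw [Finsupp.linearCombination_apply, Finsupp.sum_mapRange_index (by intro i; simp),
          Finsupp.sum_of_support_subset _ (Finsupp.support_smul) _ (by simp)]
        refine Finset.sum_congr rfl fun j _ => ?_
        rw [Finsupp.smul_apply, smul_eq_mul, hℓmul a ha, hθ, smul_smul, mul_comm]
      have hbD : ∀ (d : D) (z : F), z ∈ m ^ k • (⊤ : Submodule R F) → bK (d • z) = d • bK z := by
        intro d z hz
        refine Submodule.smul_induction_on hz (fun a ha y _ => ?_) (fun y z hy hz => ?_)
        · rw [← smul_comm a d y, hbK a ha, hbK a ha, map_smul, smul_comm (ℓ a) d]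
        · rw [smul_add, map_add, hy, hz, map_add, smul_add]
      have hkill : ∀ x : F, θ x = 0 → bK (ψ x) = 0 := fun x hx => by
        refine Submodule.smul_induction_on ((hker x).1 hx) (fun a ha y _ => ?_) (fun y z hy hz => ?_)
        · rw [map_smul]
          have h1 : a • ψ y ∈ (m ^ (k + 1)) • (⊤ : Submodule R F) := by
            rw [pow_succ', Submodule.mul_smul]; exact Submodule.smul_mem_smul ha (hψ y)
          refine Submodule.smul_induction_on h1 (fun c hc z _ => ?_) (fun y z hy hz => ?_)
          · rw [hbK c (Ideal.pow_le_pow_right (Nat.le_succ k) hc), hℓ0 c hc, zero_smul]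
          · rw [map_add, hy, hz, add_zero]
        · rw [map_add, map_add, hy, hz, add_zero]
      have hwd : ∀ x x' : F, θ x = θ x' → bK (ψ x) = bK (ψ x') := fun x x' h => by
        rw [← sub_eq_zero, ← map_sub, ← map_sub]
        exact hkill _ (by rw [map_sub, h, sub_self])
      let χ : E →ₗ[D] E :=
        { toFun := fun e => bK (ψ (Function.surjInv hsurj e))
          map_add' := fun e e' => by
            rw [← map_add, ← map_add]
            exact hwd _ _ (by simp only [map_add, Function.surjInv_eq hsurj])
          map_smul' := fun d e => by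
            rw [RingHom.id_apply, ← hbD d _ (hψ _), ← hψD]
            exact hwd _ _ (by simp only [map_smul, Function.surjInv_eq hsurj]) }
      obtain ⟨c, hc⟩ := hE χ
      have hc' : ∀ x : F, bK (ψ x) = c • θ x := fun x => by
        rw [← hc]; exact hwd _ _ (Function.surjInv_eq hsurj _).symm
      have hcr : ℓ r' = c := by
        have h1 : Finsupp.linearCombination K (fun i => θ (b i)) ((b.repr (ψ (b i0))).mapRange ℓ (map_zero _))
            = Finsupp.linearCombination K (fun i => θ (b i)) (Finsupp.single i0 c) := by
          rw [Finsupp.linearCombination_single]; exact hc' (b i0)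
        simpa using congrArg (fun f => f i0) (hli h1)
      have h2 : bK (φ x - (r + r') • x) = 0 := by
        rw [add_smul, ← sub_sub, map_sub, hbK r' hr'k, hcr, sub_eq_zero]
        exact hc' x
      have h3 : (b.repr (φ x - (r + r') • x)).mapRange ℓ (map_zero _) = 0 :=
        hli (h2.trans (map_zero _).symm)
      exact hℓ1 (by simpa using congrArg (fun f => f i) h3)
  obtain ⟨n, hn⟩ := hnil
  obtain ⟨r, hr⟩ := key n
  refine ⟨r, fun x => ?_, fun r₂ h₂ => ?_⟩
  · have := hr x
    rw [hn, Ideal.zero_eq_bot, Submodule.bot_smul, Submodule.mem_bot] at this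
    exact sub_eq_zero.1 this
  · have h1 : φ (b i0) - r • b i0 = 0 := by
      have := hr (b i0)
      rwa [hn, Ideal.zero_eq_bot, Submodule.bot_smul, Submodule.mem_bot] at this
    rw [h₂, ← sub_smul] at h1
    have := congrArg (fun f => f i0) (congrArg b.repr h1)
    simpa [sub_eq_zero] using this

end DefModLib
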